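import Groth.Agent.SubLib.Basic
import Groth.Agent.LocNoethMod.Injective
import Groth.Agent.PullbackMod.Hom

/-!
# Essential hulls inside injective sheaves of modules
-/

set_option autoImplicit false
set_option backward.isDefEq.respectTransparency false
set_option linter.style.haveILetI false

universe u

open CategoryTheory CategoryTheory.Limits AlgebraicGeometry TopologicalSpace Opposite
open Groth.Agent.PullbackMod Groth.Agent.SubLib Groth.Agent.DCohLib

noncomputable section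

namespace Groth.Agent.EssHullLib

variable {X : Scheme.{u}} {I : X.Modules}

/-- Every germ in the family is the germ of a section of the family. -/
def IsOpenFam (N : StalkSub I) : Prop :=
  ∀ (x : X), ∀ z ∈ N x, ∃ (V : X.Opens) (hx : x ∈ V) (s : Γ(I, V)),
    I.presheaf.germ V x hx s = z ∧ s ∈ sec N V

/-- `N` is essential over `J`. -/
def IsEss (J N : StalkSub I) : Prop :=
  ∀ (V : X.Opens) (s : Γ(I, V)), s ∈ sec N V → s ≠ 0 → ∃ (W : X.Opens) (h : W ≤ V) (a : Γ(X, W)),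
    a • I.presheaf.map (homOfLE h).op s ∈ sec J W ∧ a • I.presheaf.map (homOfLE h).op s ≠ 0

theorem exists_germ_ne_zero {V : X.Opens} {s : Γ(I, V)} (hs : s ≠ 0) :
    ∃ (x : X) (hx : x ∈ V), I.presheaf.germ V x hx s ≠ 0 := by
  by_contra h
  push Not at h
  refine hs (TopCat.Presheaf.section_ext (⟨I.presheaf, I.isSheaf⟩ : TopCat.Sheaf Ab X) V s 0 fun x hx => ?_)
  exact (h x hx).trans (map_zero _).symm

theorem ne_zero_of_germ {V : X.Opens} {x : X} {hx : x ∈ V} {s : Γ(I, V)}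
    (h : I.presheaf.germ V x hx s ≠ 0) : s ≠ 0 := fun h0 => h (by rw [h0, map_zero])

theorem germ_stalkLin {A B : X.Modules} (f : A ⟶ B) {V : X.Opens} {x : X} (hx : x ∈ V) (s : Γ(A, V)) :
    stalkLin f x (A.presheaf.germ V x hx s) = B.presheaf.germ V x hx (f.app V s) :=
  stalkLin_germ f x hx s

theorem isOpenFam_range {A : X.Modules} (f : A ⟶ I) : IsOpenFam fun x => LinearMap.range (stalkLin f x) := by
  rintro x _ ⟨w, rfl⟩
  obtain ⟨V, hx, t, rfl⟩ := TopCat.Presheaf.exists_germ_eq A.presheaf w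
  exact ⟨V, hx, f.app V t, (germ_stalkLin f hx t).symm,
    fun y hy => ⟨A.presheaf.germ V y hy t, germ_stalkLin f hy t⟩⟩

theorem isOpenFam_ker {B : X.Modules} (f : I ⟶ B) : IsOpenFam fun x => LinearMap.ker (stalkLin f x) := by
  intro x z hz
  obtain ⟨V, hx, t, rfl⟩ := TopCat.Presheaf.exists_germ_eq I.presheaf z
  rw [LinearMap.mem_ker, germ_stalkLin f hx t] at hz
  obtain ⟨W, hxW, i₁, i₂, hW⟩ := TopCat.Presheaf.germ_eq B.presheaf x hx hx _ 0 (hz.trans (map_zero _).symm)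
  refine ⟨W, hxW, I.presheaf.map i₁.op t, I.presheaf.germ_res_apply i₁ x hxW t, fun y hy => ?_⟩
  rw [LinearMap.mem_ker, I.presheaf.germ_res_apply, germ_stalkLin f (i₁.le hy) t,
    ← B.presheaf.germ_res_apply i₁ y hy, hW, map_zero, map_zero]

theorem stalk_range_subι {N : StalkSub I} (hN : IsOpenFam N) (x : X) :
    LinearMap.range (stalkLin (subι N) x) = N x := by
  refine le_antisymm ?_ fun z hz => ?_
  · rintro _ ⟨w, rfl⟩
    obtain ⟨V, hx, t, rfl⟩ := TopCat.Presheaf.exists_germ_eq (subMod N).presheaf w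
    rw [germ_stalkLin]
    exact mem_sec_of_app N V t x hx
  · obtain ⟨V, hx, s, rfl, hs⟩ := hN x z hz
    exact ⟨(subMod N).presheaf.germ V x hx ⟨s, hs⟩, germ_stalkLin (subι N) hx _⟩

theorem ker_stalk_cokernel {A : X.Modules} (f : A ⟶ I) (x : X) :
    LinearMap.ker (stalkLin (cokernel.π f) x) = LinearMap.range (stalkLin f x) := by
  let S := ShortComplex.mk f (cokernel.π f) (cokernel.condition f)
  have hS : S.Exact := ShortComplex.exact_cokernel f
  refine le_antisymm (fun z hz => (ShortComplex.moduleCat_exact_iff _).1 (hS.map (stkF x)) z hz) ?_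
  rintro _ ⟨w, rfl⟩
  exact congr(($((S.map (stkF x)).zero)).hom w)

theorem exists_lift_range {A B : X.Modules} (h : B ⟶ I) (ι : A ⟶ I) [Mono ι]
    (hle : ∀ x, LinearMap.range (stalkLin h x) ≤ LinearMap.range (stalkLin ι x)) :
    ∃ l : B ⟶ A, l ≫ ι = h := by
  have h0 : h ≫ cokernel.π ι = 0 := by
    refine Scheme.Modules.hom_ext _ _ fun V => AddCommGrpCat.hom_ext (AddMonoidHom.ext fun s => ?_)
    refine TopCat.Presheaf.section_ext (⟨(cokernel ι).presheaf, (cokernel ι).isSheaf⟩ : TopCat.Sheaf Ab X) V _ _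
      fun x hx => ?_
    refine Eq.trans (germ_stalkLin (h ≫ cokernel.π ι) hx s).symm ?_
    rw [stalkLin_comp, LinearMap.comp_apply]
    refine Eq.trans (show _ = (0 : (cokernel ι).presheaf.stalk x) from ?_) (map_zero _).symm
    exact LinearMap.mem_ker.1 ((ker_stalk_cokernel ι x).ge (hle x ⟨_, rfl⟩))
  exact ⟨Abelian.monoLift ι h h0, Abelian.monoLift_comp ι h h0⟩

theorem isOpenFam_iSup {c : Set (StalkSub I)} (hne : c.Nonempty) (hc : IsChain (· ≤ ·) c)
    (ho : ∀ N ∈ c, IsOpenFam N) : IsOpenFam (sSup c) ∧ ∀ x z, z ∈ sSup c x → ∃ N ∈ c, z ∈ N x := by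
  have key : ∀ x z, z ∈ sSup c x → ∃ N ∈ c, z ∈ N x := by
    intro x z hz
    haveI : Nonempty c := hne.to_subtype
    rw [sSup_apply, Submodule.mem_iSup_of_directed] at hz
    · obtain ⟨N, hN⟩ := hz
      exact ⟨N.1, N.2, hN⟩
    · intro a b
      rcases hc.total a.2 b.2 with h | h
      · exact ⟨b, h x, le_rfl⟩
      · exact ⟨a, le_rfl, h x⟩
  refine ⟨fun x z hz => ?_, key⟩
  obtain ⟨N, hN, hz'⟩ := key x z hz
  obtain ⟨V, hx, s, hs, hsec⟩ := ho N hN x z hz'
  exact ⟨V, hx, s, hs, fun y hy => le_sSup hN y (hsec y hy)⟩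

theorem exists_maximal_ess {J : StalkSub I} (hJ : IsOpenFam J) :
    ∃ S : StalkSub I, J ≤ S ∧ IsOpenFam S ∧ IsEss J S ∧
      ∀ N, S ≤ N → IsOpenFam N → IsEss J N → N ≤ S := by
  let P : Set (StalkSub I) := {N | IsOpenFam N ∧ IsEss J N}
  have hJP : J ∈ P := ⟨hJ, fun V s hs hs0 => ⟨V, le_rfl, 1, by
    rw [one_smul, show (homOfLE (le_refl V)).op = 𝟙 _ from Subsingleton.elim _ _, CategoryTheory.Functor.map_id]
    exact ⟨hs, hs0⟩⟩⟩
  obtain ⟨S, hle, hS⟩ := zorn_le_nonempty₀ P (fun c hcP hc N hN => by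
    obtain ⟨ho, hmem⟩ := isOpenFam_iSup ⟨N, hN⟩ hc fun M hM => (hcP hM).1
    refine ⟨sSup c, ⟨ho, fun V s hs hs0 => ?_⟩, fun M hM => le_sSup hM⟩
    obtain ⟨x, hx, hne⟩ := exists_germ_ne_zero hs0
    obtain ⟨M, hM, hz⟩ := hmem x _ (hs x hx)
    obtain ⟨V₁, hx₁, t, ht, hts⟩ := (hcP hM).1 x _ hz
    obtain ⟨W, hxW, i₁, i₂, hW⟩ := TopCat.Presheaf.germ_eq I.presheaf x hx₁ hx t s ht
    obtain ⟨W', h', a, ha, ha0⟩ := (hcP hM).2 W (I.presheaf.map i₂.op s)
      (hW ▸ res_mem_sec M i₁ hts) (ne_zero_of_germ (hx := hxW) (by rwa [I.presheaf.germ_res_apply]))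
    refine ⟨W', h'.trans i₂.le, a, ?_⟩
    rw [← ConcreteCategory.comp_apply, ← Functor.map_comp] at ha ha0
    exact ⟨ha, ha0⟩) J hJP
  exact ⟨S, hle, hS.prop.1, hS.prop.2, fun N h1 h2 h3 => hS.2 ⟨h2, h3⟩ h1⟩

theorem exists_maximal_disjoint (S : StalkSub I) :
    ∃ T : StalkSub I, IsOpenFam T ∧ (∀ x, T x ⊓ S x = ⊥) ∧
      ∀ N, T ≤ N → IsOpenFam N → (∀ x, N x ⊓ S x = ⊥) → N ≤ T := by
  let P : Set (StalkSub I) := {N | IsOpenFam N ∧ ∀ x, N x ⊓ S x = ⊥}
  have h0 : (fun _ => ⊥ : StalkSub I) ∈ P := ⟨fun x z hz => ⟨⊤, Opens.mem_top x, 0, by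
    rw [map_zero]; exact ((Submodule.mem_bot _).1 hz).symm, zero_mem _⟩, fun x => bot_inf_eq _⟩
  obtain ⟨T, -, hT⟩ := zorn_le_nonempty₀ P (fun c hcP hc N hN => by
    obtain ⟨ho, hmem⟩ := isOpenFam_iSup ⟨N, hN⟩ hc fun M hM => (hcP hM).1
    refine ⟨sSup c, ⟨ho, fun x => (Submodule.eq_bot_iff _).2 fun z hz => ?_⟩, fun M hM => le_sSup hM⟩
    obtain ⟨M, hM, hzM⟩ := hmem x z hz.1
    exact (Submodule.mem_bot _).1 (((hcP hM).2 x).le ⟨hzM, hz.2⟩)) _ h0
  exact ⟨T, hT.prop.1, hT.prop.2, fun N h1 h2 h3 => hT.2 ⟨h2, h3⟩ h1⟩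

/-- A family with an extra section. -/
def adjoin (T : StalkSub I) (V : X.Opens) (t : Γ(I, V)) : StalkSub I := fun y =>
  T y ⊔ ⨆ hy : y ∈ V, Submodule.span (X.presheaf.stalk y) {I.presheaf.germ V y hy t}

theorem isOpenFam_adjoin {T : StalkSub I} (hT : IsOpenFam T) (V : X.Opens) (t : Γ(I, V)) :
    IsOpenFam (adjoin T V t) := by
  intro y z hz
  obtain ⟨u, hu, v, hv, rfl⟩ := Submodule.mem_sup.1 hz
  obtain ⟨W, hyW, σ, hσ, hσs⟩ := hT y u hu
  by_cases hy : y ∈ V
  · rw [iSup_pos hy, Submodule.mem_span_singleton] at hv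
    obtain ⟨c, rfl⟩ := hv
    obtain ⟨U, hyU, c, rfl⟩ := TopCat.Presheaf.exists_germ_eq X.presheaf c
    let O := W ⊓ V ⊓ U
    refine ⟨O, ⟨⟨hyW, hy⟩, hyU⟩, I.presheaf.map (homOfLE (inf_le_left.trans inf_le_left : O ≤ W)).op σ +
      X.presheaf.map (homOfLE (inf_le_right : O ≤ U)).op c •
        I.presheaf.map (homOfLE (inf_le_left.trans inf_le_right : O ≤ V)).op t, ?_, fun w hw => ?_⟩
    · rw [map_add, SubLib.germ_smul', I.presheaf.germ_res_apply, I.presheaf.germ_res_apply,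
        X.presheaf.germ_res_apply, hσ]
    · rw [map_add, SubLib.germ_smul', I.presheaf.germ_res_apply, I.presheaf.germ_res_apply]
      refine Submodule.add_mem_sup (hσs w hw.1.1) (Submodule.smul_mem _ _ ?_)
      rw [iSup_pos (show w ∈ V from hw.1.2)]
      exact Submodule.mem_span_singleton_self _
  · rw [iSup_neg hy, Submodule.mem_bot] at hv
    subst hv
    exact ⟨W, hyW, σ, by rw [add_zero, hσ], fun w hw => Submodule.mem_sup_left (hσs w hw)⟩

/-- An injective module with a submodule contains an injective essential extension of it. -/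
theorem exists_injective_ess [Injective I] {J : StalkSub I} (hJ : IsOpenFam J) :
    ∃ S : StalkSub I, J ≤ S ∧ IsOpenFam S ∧ IsEss J S ∧ Injective (subMod S) := by
  obtain ⟨S, hJS, hS, hSe, hSmax⟩ := exists_maximal_ess hJ
  obtain ⟨T, hT, hTS, hTmax⟩ := exists_maximal_disjoint S
  let π := cokernel.π (subι T)
  haveI : Mono (subι S ≫ π) := (mono_iff_stalk _).2 fun x => by
    rw [stalkLin_comp, LinearMap.coe_comp]
    refine (injective_iff_map_eq_zero ((stalkLin π x) ∘ₗ stalkLin (subι S) x)).2 fun w hw => ?_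
    rw [LinearMap.comp_apply] at hw
    have h1 : stalkLin (subι S) x w ∈ T x ⊓ S x :=
      ⟨(stalk_range_subι hT x).le ((ker_stalk_cokernel (subι T) x).le hw), (stalk_range_subι hS x).le ⟨w, rfl⟩⟩
    rw [hTS x, Submodule.mem_bot] at h1
    exact (mono_iff_stalk (subι S)).1 inferInstance x (h1.trans (map_zero _).symm)
  let β : cokernel (subι T) ⟶ I := Injective.factorThru (subι S) (subι S ≫ π)
  let h : I ⟶ I := π ≫ β
  have hfix : subι S ≫ h = subι S := by
    rw [← Category.assoc]; exact Injective.comp_factorThru _ _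
  have hfix' : ∀ x, ∀ z ∈ S x, stalkLin h x z = z := fun x z hz => by
    obtain ⟨w, rfl⟩ := (stalk_range_subι hS x).ge hz
    rw [← LinearMap.comp_apply, ← stalkLin_comp, hfix]
  have hker : ∀ x, LinearMap.ker (stalkLin h x) ≤ T x := by
    refine hTmax _ (fun x z hz => ?_) (isOpenFam_ker h) fun x => (Submodule.eq_bot_iff _).2 fun z hz => ?_
    · rw [LinearMap.mem_ker, stalkLin_comp, LinearMap.comp_apply,
        LinearMap.mem_ker.1 ((ker_stalk_cokernel (subι T) x).ge ((stalk_range_subι hT x).ge hz)), map_zero]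
    · exact (hfix' x z hz.2).symm.trans (LinearMap.mem_ker.1 hz.1)
  let B : StalkSub I := fun x => LinearMap.range (stalkLin h x)
  have hSB : S ≤ B := fun x z hz => ⟨z, hfix' x z hz⟩
  have hBe : IsEss J B := by
    intro V s hs hs0
    obtain ⟨x, hx, hne⟩ := exists_germ_ne_zero hs0
    obtain ⟨w, hw⟩ := hs x hx
    obtain ⟨V₁, hx₁, t, rfl⟩ := TopCat.Presheaf.exists_germ_eq I.presheaf w
    rw [germ_stalkLin h hx₁ t] at hw
    obtain ⟨V₂, hx₂, i₁, i₂, h12⟩ := TopCat.Presheaf.germ_eq I.presheaf x hx₁ hx _ s hw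
    have htT : I.presheaf.germ V₁ x hx₁ t ∉ T x := fun hmem => hne (by
      rw [← hw, ← germ_stalkLin h hx₁ t, stalkLin_comp, LinearMap.comp_apply,
        LinearMap.mem_ker.1 ((ker_stalk_cokernel (subι T) x).ge ((stalk_range_subι hT x).ge hmem)), map_zero])
    let t₂ := I.presheaf.map i₁.op t
    have hnd : ¬ ∀ y, adjoin T V₂ t₂ y ⊓ S y = ⊥ := fun hd => htT (by
      refine hTmax _ (fun y => le_sup_left) (isOpenFam_adjoin hT V₂ t₂) hd x (Submodule.mem_sup_right ?_)
      rw [iSup_pos hx₂, ← I.presheaf.germ_res_apply i₁ x hx₂ t]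
      exact Submodule.mem_span_singleton_self _)
    push Not at hnd
    obtain ⟨y, hy⟩ := hnd
    obtain ⟨u, hu, hu0⟩ := Submodule.exists_mem_ne_zero_of_ne_bot hy
    obtain ⟨τ, hτ, v, hv, huv⟩ := Submodule.mem_sup.1 hu.1
    have hy2 : y ∈ V₂ := by
      by_contra hy2
      rw [iSup_neg hy2, Submodule.mem_bot] at hv
      rw [hv, add_zero] at huv
      exact hu0 ((Submodule.mem_bot _).1 ((hTS y).le (show u ∈ T y ⊓ S y from ⟨huv ▸ hτ, hu.2⟩)))
    rw [iSup_pos hy2, Submodule.mem_span_singleton] at hv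
    obtain ⟨c, rfl⟩ := hv
    obtain ⟨U, hyU, c, rfl⟩ := TopCat.Presheaf.exists_germ_eq X.presheaf c
    have hu' : u = X.presheaf.germ U y hyU c • I.presheaf.germ V y (i₂.le hy2) s := by
      have h0 : stalkLin h y τ = 0 := by
        rw [stalkLin_comp, LinearMap.comp_apply,
          LinearMap.mem_ker.1 ((ker_stalk_cokernel (subι T) y).ge ((stalk_range_subι hT y).ge hτ)), map_zero]
      rw [← hfix' y u hu.2, ← huv, map_add, h0, zero_add, map_smul]
      congr 1
      rw [I.presheaf.germ_res_apply, germ_stalkLin h (i₁.le hy2) t, ← I.presheaf.germ_res_apply i₁ y hy2, h12,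
        I.presheaf.germ_res_apply]
    obtain ⟨W₁, hyW₁, σ, hσ, hσs⟩ := hS y u hu.2
    let O := U ⊓ V₂
    let cs : Γ(I, O) := X.presheaf.map (homOfLE (inf_le_left : O ≤ U)).op c •
      I.presheaf.map (homOfLE (inf_le_right.trans i₂.le : O ≤ V)).op s
    have hcs : I.presheaf.germ O y (show y ∈ O from ⟨hyU, hy2⟩) cs = u := by
      rw [hu', SubLib.germ_smul', X.presheaf.germ_res_apply, I.presheaf.germ_res_apply]
    obtain ⟨O', hyO', j₁, j₂, hj⟩ := TopCat.Presheaf.germ_eq I.presheaf y hyW₁ (show y ∈ O from ⟨hyU, hy2⟩) σ cs (hσ.trans hcs.symm)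
    obtain ⟨W, hW, b, hb, hb0⟩ := hSe O' (I.presheaf.map j₁.op σ) (res_mem_sec S j₁ hσs)
      (ne_zero_of_germ (hx := hyO') (by rw [I.presheaf.germ_res_apply, hσ]; exact hu0))
    refine ⟨W, hW.trans (j₂.le.trans (inf_le_right.trans i₂.le)),
      b * X.presheaf.map (homOfLE (hW.trans (j₂.le.trans inf_le_left) : W ≤ U)).op c, ?_⟩
    have key : b • I.presheaf.map (homOfLE hW).op (I.presheaf.map j₁.op σ) =
        (b * X.presheaf.map (homOfLE (hW.trans (j₂.le.trans inf_le_left) : W ≤ U)).op c) •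
          I.presheaf.map (homOfLE (hW.trans (j₂.le.trans (inf_le_right.trans i₂.le)))).op s := by
      rw [hj, mul_smul]
      congr 1
      rw [← ConcreteCategory.comp_apply, ← Functor.map_comp, ← op_comp]
      refine (I.val.map_smul _ _ _).trans ?_
      congr 1
      · exact (ConcreteCategory.comp_apply _ _ _).symm.trans
          (congrArg (fun g : Γ(X, U) ⟶ Γ(X, W) => g c) ((X.presheaf.map_comp _ _).symm.trans (congrArg X.presheaf.map (Subsingleton.elim _ _))))
      · exact (ConcreteCategory.comp_apply _ _ _).symm.trans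
          (congrArg (fun g : I.presheaf.obj (op V) ⟶ I.presheaf.obj (op W) => g s) ((I.presheaf.map_comp _ _).symm.trans (congrArg I.presheaf.map (Subsingleton.elim _ _))))
    rw [← key]
    exact ⟨hb, hb0⟩
  have hBS : B ≤ S := hSmax B hSB (isOpenFam_range h) hBe
  obtain ⟨l, hl⟩ := exists_lift_range h (subι S) fun x => (hBS x).trans (stalk_range_subι hS x).ge
  refine ⟨S, hJS, hS, hSe, ⟨fun g f _ => ⟨Injective.factorThru (g ≫ subι S) f ≫ l, ?_⟩⟩⟩
  rw [← cancel_mono (subι S), Category.assoc, Category.assoc, hl, ← Category.assoc,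
    Injective.comp_factorThru, Category.assoc, hfix]

end Groth.Agent.EssHullLib
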